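import Cfsg.Agent.H141.Rg.Defs
import Cfsg.Agent.H447.Rg.Poly
import Cfsg.Agent.OddCyclic.ClaimC.SzIso
import Cfsg.Agent.LieExceptional.SuzukiSylow

/-!
# S5714: elements of small order in the Suzuki groups (`ord_sz`)
-/

set_option autoImplicit false

namespace Cfsg.Agent.H375.Rg

open Matrix Polynomial Cfsg Cfsg.Agent.LieExceptional Cfsg.Agent.LieExceptional.SuzukiBasic Cfsg.Agent.H141.Rg Cfsg.Agent.H436 Cfsg.Agent.OrdDiv

variable {F : Type} [Field F] [Fintype F] {m : ℕ}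

/-- the polynomial matrix of the centre of the unipotent subgroup -/
noncomputable def PP (F : Type) [Field F] (m : ℕ) : Matrix (Fin 4) (Fin 4) F[X] :=
  !![1, 0, X, X ^ 2 ^ (m + 1); 0, 1, 0, X; 0, 0, 1, 0; 0, 0, 0, 1]

theorem PP_eval (t : F) : (PP F m).map (Polynomial.eval t) = ((U m 0 t : SpecialLinearGroup (Fin 4) F) : Matrix (Fin 4) (Fin 4) F) := by
  rw [U_coe, zc_def]
  ext i j
  fin_cases i <;> fin_cases j <;> simp [PP]

theorem PP_deg (i j : Fin 4) : (PP F m i j).natDegree ≤ 2 ^ (m + 1) := by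
  have h1 : 1 ≤ 2 ^ (m + 1) := Nat.one_le_two_pow
  fin_cases i <;> fin_cases j <;> simp [PP] <;> exact h1

theorem PP_coeff (i j : Fin 4) (h : (i, j) ≠ (0, 3)) : (PP F m i j).coeff (2 ^ (m + 1)) = 0 := by
  have h1 : 2 ≤ 2 ^ (m + 1) := by rw [pow_succ]; have := Nat.one_le_two_pow (n := m); omega
  have h2 : (1 : F[X]).coeff (2 ^ (m + 1)) = 0 := by
    rw [Polynomial.coeff_one, if_neg (by omega)]
  have h3 : (X : F[X]).coeff (2 ^ (m + 1)) = 0 := by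
    rw [Polynomial.coeff_X, if_neg (by omega)]
  fin_cases i <;> fin_cases j <;> first | exact absurd rfl h | simp [PP, h2, h3]

theorem corner (a b : F) (k : Fˣ) (c d : F) : (U m a b * W F * H m k * U m c d).1 3 0 ≠ 0 := by
  have hk := k.ne_zero
  have h : (U m a b * W F * H m k * U m c d).1 = (U m a b).1 * (W F).1 * (H m k).1 * (U m c d).1 := rfl
  rw [h]
  have e1 : (U m a b).1 = _ := U_coe m a b
  have e2 : (U m c d).1 = _ := U_coe m c d
  have e3 : (H m k).1 = _ := H_coe m k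
  have e4 : (W F).1 = _ := W_coe
  rw [e1, e2, e3, e4]
  simp [Matrix.mul_apply, Fin.sum_univ_succ, Matrix.diagonal]
  change ¬ (if (0 : Fin 4) = 0 then (k : F) ^ (2 ^ m + 1) else 0) = 0
  rw [if_pos rfl]
  exact pow_ne_zero _ hk

/-- the natural representation -/
def rep (F : Type) [Field F] [Fintype F] (m : ℕ) : ↥(Cfsg.Sz F m) →* Matrix (Fin 4) (Fin 4) F where
  toFun g := g.1.1
  map_one' := rfl
  map_mul' _ _ := rfl

theorem card_big (hm : 1 ≤ m) (hF : Fintype.card F = 2 ^ (2 * m + 1)) :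
    Nat.card ↥(Cfsg.Sz F m) ≤ 2 * Nat.card {g : ↥(Cfsg.Sz F m) // rep F m g 3 0 ≠ 0} := by
  classical
  have hfin : Finite ↥(Cfsg.Sz F m) := Nat.finite_of_card_ne_zero (by
    rw [SuzukiSylow.card_Sz hm hF]
    have : 2 ≤ 2 ^ (2 * m + 1) := by rw [pow_succ]; have := Nat.one_le_two_pow (n := 2 * m); omega
    have h1 : 0 < 2 ^ (2 * m + 1) - 1 := by omega
    positivity)
  have h1 : Nat.card {g : ↥(Cfsg.Sz F m) // ¬ rep F m g 3 0 ≠ 0} ≤ Nat.card (F × F × Fˣ) := by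
    have h : ∀ g : {g : ↥(Cfsg.Sz F m) // ¬ rep F m g 3 0 ≠ 0}, ∃ x : F × F × Fˣ, g.1.1 = U m x.1 x.2.1 * H m x.2.2 := by
      rintro ⟨⟨g, hg⟩, h⟩
      rcases bruhat hm hF hg with ⟨a, b, k, h2⟩ | ⟨a, b, k, c, d, h2⟩
      · exact ⟨(a, b, k), h2⟩
      · exfalso
        apply h
        change g.1 3 0 ≠ 0
        rw [h2]
        exact corner a b k c d
    choose f hf using h
    refine Nat.card_le_card_of_injective f fun g g' h => Subtype.ext (Subtype.ext ?_)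
    rw [hf g, hf g', h]
  have h2 : Nat.card (F × F × Fˣ) = 2 ^ (2 * m + 1) * (2 ^ (2 * m + 1) * (2 ^ (2 * m + 1) - 1)) := by
    rw [Nat.card_prod, Nat.card_prod, Nat.card_units, Nat.card_eq_fintype_card, hF]
  have h3 := SuzukiSylow.card_Sz (F := F) hm hF
  have h4 : Nat.card ↥(Cfsg.Sz F m) = Nat.card {g : ↥(Cfsg.Sz F m) // rep F m g 3 0 ≠ 0} +
      Nat.card {g : ↥(Cfsg.Sz F m) // ¬ rep F m g 3 0 ≠ 0} := by
    rw [← Nat.card_sum]
    exact Nat.card_congr (Equiv.sumCompl _).symm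
  have h5 : 2 * (2 ^ (2 * m + 1) * (2 ^ (2 * m + 1) * (2 ^ (2 * m + 1) - 1))) ≤ Nat.card ↥(Cfsg.Sz F m) := by
    rw [h3]
    have : 1 ≤ 2 ^ (2 * m + 1) := Nat.one_le_two_pow
    generalize 2 ^ (2 * m + 1) = n at this
    have h6 : 2 ≤ n ^ 2 + 1 := by nlinarith
    calc _ = 2 * (n ^ 2 * (n - 1)) := by ring
      _ ≤ _ := Nat.mul_le_mul_right _ h6
  omega

theorem ord_model (hm : 1 ≤ m) (hF : Fintype.card F = 2 ^ (2 * m + 1)) {T : Type} [Group T] [Finite T]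
    (e : T ≃* ↥(Cfsg.Sz F m)) : OrdData T (2 ^ (2 * m + 1)) (1 / 2) 2 := by
  refine ⟨F, inferInstance, fun t => e.symm ⟨U m 0 t, U_mem hF 0 t⟩, {g | rep F m (e g) 3 0 ≠ 0}, 2 ^ (m + 1), ?_, ?_, ?_, ?_, ?_⟩
  · intro s t h
    have h1 := congrArg (fun g => g.1) (e.symm.injective h)
    exact ((U_eq_U_iff m 0 s 0 t).1 h1).2
  · rw [Nat.card_eq_fintype_card, hF]
  · have h1 := card_big (F := F) hm hF
    have h2 : Nat.card ↥{g | rep F m (e g) 3 0 ≠ 0} = Nat.card {g : ↥(Cfsg.Sz F m) // rep F m g 3 0 ≠ 0} :=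
      Nat.card_congr (e.toEquiv.subtypeEquiv fun g => Iff.rfl)
    rw [h2, Nat.card_congr e.toEquiv]
    have h3 : (Nat.card ↥(Cfsg.Sz F m) : ℝ) ≤ 2 * (Nat.card {g : ↥(Cfsg.Sz F m) // rep F m g 3 0 ≠ 0} : ℝ) := by exact_mod_cast h1
    linarith
  · have h1 : ((2 ^ (m + 1) : ℕ) : ℝ) = Real.sqrt (2 ^ (2 * m + 2)) := by
      rw [eq_comm, Real.sqrt_eq_iff_mul_self_eq (by positivity) (by positivity)]
      push_cast
      ring
    rw [h1]
    have h2 : (2 : ℝ) ^ (2 * m + 2) = 2 * ((2 ^ (2 * m + 1) : ℕ) : ℝ) := by push_cast; ring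
    rw [h2, Real.sqrt_mul (by norm_num)]
    apply mul_le_mul_of_nonneg_right _ (Real.sqrt_nonneg _)
    rw [Real.sqrt_le_left (by norm_num)]
    norm_num
  · intro g hg n hn
    refine H447.Rg.card_pow_eq_one_le ((rep F m).comp e.toMonoidHom) (fun t => e.symm ⟨U m 0 t, U_mem hF 0 t⟩) id Function.injective_id
      (PP F m) Nat.one_le_two_pow PP_deg (fun s => ?_) (i0 := 0) (j0 := 3) (fun i j h => PP_coeff i j h) ?_ g hg n hn
    · rw [id, PP_eval]
      change ((e (e.symm ⟨U m 0 s, U_mem hF 0 s⟩)).1 : SpecialLinearGroup (Fin 4) F).1 = _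
      rw [MulEquiv.apply_symm_apply]
    · have h1 : PP F m 0 3 = X ^ 2 ^ (m + 1) := rfl
      rw [h1, Polynomial.coeff_X_pow, if_pos rfl]
      exact one_ne_zero

theorem ord_sz : ∃ c0 D0 : ℝ, 0 < c0 ∧ ∀ (q : ℕ) (T : Type) [Group T] [Finite T], IsNamed (.sz q) T → OrdData T q c0 D0 := by
  refine ⟨1 / 2, 2, by norm_num, fun q T _ _ h => ?_⟩
  obtain ⟨F, _, _, m, hm, hF, h2, ⟨e⟩⟩ := h.real
  have h3 : Fintype.card F = 2 ^ (2 * m + 1) := hF.trans h2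
  obtain ⟨i⟩ := OddCyclic.ClaimC.SzIso.iso (F := F) hm h3
  rw [← hF, h3]
  exact ord_model hm h3 (e.trans i.symm)

end Cfsg.Agent.H375.Rg
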